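import Groth.Agent.NormStabLib.Main
import Groth.Agent.NormDimOneLib.Chart
import Groth.Agent.CurveVBLib.Torsion
import Groth.Agent.RegConLib.Castelnuovo
import Groth.Agent.KFlatLib.StalkPull
import Groth.Agent.S1585
import Groth.Agent.S1688
import Groth.Agent.DefClassLib.Basic
import Groth.Agent.MiscFlat6.NormalLowDim

/-!
# Direct images of bundles along the normalisation of a curve
-/

set_option autoImplicit false
set_option linter.style.haveILetI false
set_option linter.unusedSectionVars false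
set_option backward.isDefEq.respectTransparency false
set_option backward.isDefEq.respectTransparency.types false
set_option maxHeartbeats 1000000
set_option synthInstance.maxHeartbeats 400000

universe u

open CategoryTheory CategoryTheory.Limits AlgebraicGeometry TopologicalSpace Opposite
open KFlatLib (pb puSec puSecLE)
open DevissLib (gm)

noncomputable section

namespace NormStab

variable {X Y : Scheme.{u}}

theorem eq_zero_of_gen [IsIntegral X] {M : X.Modules} [Coh.IsQCoh M] (h : NoTors M) {V : X.Opens} (hV : IsAffineOpen V)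
    (hη : genericPoint X ∈ V) (s : Γ(M, V)) (hs : M.presheaf.germ V (genericPoint X) hη s = 0) : s = 0 := by
  letI := Module.compHom (M.presheaf.stalk (genericPoint X)) (X.presheaf.germ V _ hη).hom
  haveI := FlatLib.isLocalizedModule_germLin M hV hη
  obtain ⟨⟨c, hc⟩, hcs⟩ := (IsLocalizedModule.eq_iff_exists (hV.primeIdealOf ⟨_, hη⟩).asIdeal.primeCompl
    (FlatLib.germLin M hη)).1 (show FlatLib.germLin M hη s = FlatLib.germLin M hη 0 from
      hs.trans (map_zero (FlatLib.germLin M hη)).symm)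
  exact h V hV c (fun hc0 => hc (hc0 ▸ Ideal.zero_mem _)) s (hcs.trans (smul_zero _))

theorem stalk_torsionFree [IsIntegral X] {M : X.Modules} [Coh.IsQCoh M] (h : NoTors M) (x : X) :
    NoZeroSMulDivisors (X.presheaf.stalk x) ((DerSch.stalkFunctor X x).obj M) := by
  refine ⟨fun {r m} hrm => or_iff_not_imp_left.2 fun hr => ?_⟩
  obtain ⟨V₁, hx₁, r₀, rfl⟩ := X.presheaf.exists_germ_eq (x := x) r
  obtain ⟨V₂, hx₂, s, rfl⟩ := DevissLib.exists_gm_eq M x m
  obtain ⟨V, hV, hxV, hle⟩ := exists_isAffineOpen_mem_and_subset (x := x) (U := V₁ ⊓ V₂) ⟨hx₁, hx₂⟩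
  let r' := X.presheaf.map (homOfLE (hle.trans inf_le_left)).op r₀
  let s' := M.presheaf.map (homOfLE (hle.trans inf_le_right)).op s
  have hr' : X.presheaf.germ V x hxV r' = X.presheaf.germ V₁ x hx₁ r₀ :=
    TopCat.Presheaf.germ_res_apply _ _ _ _ _
  have hs' : gm M x hxV s' = gm M x hx₂ s := DevissLib.gm_map M _ x hxV s
  rw [← hs', ← hr', ← DevissLib.gm_smul] at hrm
  rw [← hs']
  letI := Module.compHom (M.presheaf.stalk x) (X.presheaf.germ V x hxV).hom
  haveI := FlatLib.isLocalizedModule_germLin M hV hxV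
  obtain ⟨⟨c, hc⟩, hcs⟩ := (IsLocalizedModule.eq_iff_exists (hV.primeIdealOf ⟨_, hxV⟩).asIdeal.primeCompl
    (FlatLib.germLin M hxV)).1 (show FlatLib.germLin M hxV (r' • s') = FlatLib.germLin M hxV 0 from
      hrm.trans (map_zero (FlatLib.germLin M hxV)).symm)
  have h1 := h V hV c (fun hc0 => hc (hc0 ▸ Ideal.zero_mem _)) _ (hcs.trans (smul_zero _))
  have hr0 : r' ≠ 0 := fun h0 => hr (by rw [← hr', h0, map_zero])
  exact (congrArg (gm M x hxV) (h V hV r' hr0 s' h1)).trans (map_zero _)

theorem noTors_of_stalks [IsIntegral X] {M : X.Modules}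
    (h : ∀ x, NoZeroSMulDivisors (X.presheaf.stalk x) ((DerSch.stalkFunctor X x).obj M)) : NoTors M := by
  intro V hV c hc s hs
  refine TwistLib.mod_ext M fun x hx => ?_
  haveI := h x
  have h' := congrArg (M.presheaf.germ V x hx) hs
  rw [AmpleLib.germ_smul, map_zero] at h'
  rw [map_zero]
  exact (eq_zero_or_eq_zero_of_smul_eq_zero (R := X.presheaf.stalk x) (M := (DerSch.stalkFunctor X x).obj M) h').resolve_left
    fun h0 => hc (germ_injective_of_isIntegral X x hx (h0.trans (map_zero _).symm))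

/-- A map into a module without torsion vanishes if it vanishes on one nonempty affine open. -/
theorem hom_eq_zero_of_open [IsIntegral X] {A N : X.Modules} [Coh.IsQCoh A] [Coh.IsQCoh N] (hN : NoTors N)
    (f : A ⟶ N) {W : X.Opens} (hW : IsAffineOpen W) (hη : genericPoint X ∈ W) (hf : ∀ a : Γ(A, W), f.app W a = 0) :
    f = 0 := by
  have hst : ∀ z, ((DevissLib.St (genericPoint X)).map f).hom z = 0 := fun z => by
    letI := Module.compHom (A.presheaf.stalk (genericPoint X)) (X.presheaf.germ W _ hη).hom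
    haveI := FlatLib.isLocalizedModule_germLin A hW hη
    obtain ⟨⟨a, c, hc⟩, hca⟩ := IsLocalizedModule.surj (hW.primeIdealOf ⟨_, hη⟩).asIdeal.primeCompl
      (FlatLib.germLin A hη) z
    have hca' : X.presheaf.germ W (genericPoint X) hη c • z = gm A (genericPoint X) hη a := hca
    have h1 := congrArg ((DevissLib.St (genericPoint X)).map f).hom hca'
    rw [map_smul, DevissLib.gm_app, hf, show gm N (genericPoint X) hη 0 = 0 from map_zero _] at h1
    haveI := stalk_torsionFree hN (genericPoint X)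
    refine (eq_zero_or_eq_zero_of_smul_eq_zero h1).resolve_left fun h0 => hc ?_
    rw [germ_injective_of_isIntegral X _ hη (h0.trans (map_zero _).symm)]
    exact Ideal.zero_mem _
  refine DefClassLib.hom_ext_affines fun V' a => ?_
  obtain ⟨V, hV⟩ := V'
  by_cases hV0 : (V : Set X).Nonempty
  · have hηV : genericPoint X ∈ V := (genericPoint_spec X).mem_open_set_iff V.2 |>.2 (by simpa using hV0)
    exact (eq_zero_of_gen hN hV hηV _ ((DevissLib.gm_app f _ hηV a).symm.trans (hst _))).trans rfl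
  · exact TwistLib.mod_ext N fun x hx => absurd ⟨x, hx⟩ hV0

variable (g : Y ⟶ X)

theorem epi_counit [IsAffineHom g] (E : Y.Modules) [Coh.IsQCoh E] :
    Epi ((Scheme.Modules.pullbackPushforwardAdjunction g).counit.app E) := by
  let ε : pb g ((Scheme.Modules.pushforward g).obj E) ⟶ E := (Scheme.Modules.pullbackPushforwardAdjunction g).counit.app E
  show Epi ε
  haveI : Coh.IsQCoh (pb g ((Scheme.Modules.pushforward g).obj E)) :=
    haveI := QCohLib.isQCoh_pushforward g E
    KFlatLib.isQCoh_pullback g _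
  haveI : Coh.IsQCoh (cokernel ε) := QCohLib.isQCoh_cokernel ε
  refine Preadditive.epi_of_isZero_cokernel ε (isZero_of_affine_sections fun y => ?_)
  obtain ⟨V, hV, hyV, -⟩ := exists_isAffineOpen_mem_and_subset (x := g y) (U := (⊤ : X.Opens)) trivial
  refine ⟨g ⁻¹ᵁ V, hV.preimage g, hyV, ?_⟩
  suffices hz : ∀ c : Γ(cokernel ε, g ⁻¹ᵁ V), c = 0 from ⟨fun a b => by rw [hz a, hz b]⟩
  intro c
  obtain ⟨b, rfl⟩ := OmegaAffLib.surjective_app_of_epi (cokernel.π ε) (hV.preimage g) c
  have ht : ε.app (g ⁻¹ᵁ V) (puSec g (M := (Scheme.Modules.pushforward g).obj E) b) = b :=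
    ConcreteCategory.congr_hom (congrArg (fun φ => Scheme.Modules.Hom.app φ V)
      ((Scheme.Modules.pullbackPushforwardAdjunction g).right_triangle_components E)) b
  rw [← ht]
  exact ConcreteCategory.congr_hom (congrArg (fun φ => Scheme.Modules.Hom.app φ (g ⁻¹ᵁ V)) (cokernel.condition ε)) _

/-- Over the isomorphism locus the sections of the pullback are those of the module. -/
theorem bijective_puSec [IsAffineHom g] {U : X.Opens} (hU : IsIso (g ∣_ U)) (G : X.Modules) [Coh.IsQCoh G]
    {V : X.Opens} (hV : IsAffineOpen V) (hVU : V ≤ U) :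
    Function.Bijective (fun m : Γ(G, V) => puSec g (M := G) m) := by
  letI : Algebra Γ(X, V) Γ(Y, g ⁻¹ᵁ V) := (g.appLE V (g ⁻¹ᵁ V) le_rfl).hom.toAlgebra
  letI : Module Γ(X, V) Γ(pb g G, g ⁻¹ᵁ V) := Module.compHom _ (g.appLE V (g ⁻¹ᵁ V) le_rfl).hom
  haveI : IsScalarTower Γ(X, V) Γ(Y, g ⁻¹ᵁ V) Γ(pb g G, g ⁻¹ᵁ V) := IsScalarTower.of_algebraMap_smul fun _ _ => rfl
  let ψ : Γ(G, V) →ₗ[Γ(X, V)] Γ(pb g G, g ⁻¹ᵁ V) :=
    { toFun := fun m => puSecLE g G (le_refl (g ⁻¹ᵁ V)) m
      map_add' := fun a b => map_add _ a b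
      map_smul' := fun r m => KFlatLib.puSecLE_smul g G le_rfl r m }
  have hbc := KFlatLib.isBaseChange_puSec g G hV (hV.preimage g) le_rfl (fun _ => rfl) ψ (fun _ => rfl)
  haveI := isIso_app_of_restrict g hU hVU
  have hb : Function.Bijective (Algebra.linearMap Γ(X, V) Γ(Y, g ⁻¹ᵁ V)) := by
    show Function.Bijective (g.appLE V (g ⁻¹ᵁ V) le_rfl).hom
    rw [← Scheme.Hom.app_eq_appLE]
    exact ConcreteCategory.bijective_of_isIso (g.app V)
  let e : Γ(G, V) ≃ₗ[Γ(X, V)] Γ(pb g G, g ⁻¹ᵁ V) :=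
    (TensorProduct.lid Γ(X, V) Γ(G, V)).symm ≪≫ₗ
      TensorProduct.congr (LinearEquiv.ofBijective _ hb) (LinearEquiv.refl _ _) ≪≫ₗ
      hbc.equiv.restrictScalars Γ(X, V)
  have he : ∀ m, puSec g (M := G) m = e m := fun m => by
    refine (AmpleLib.res_refl _ _).symm.trans (show ψ m = e m from ?_)
    simp [e, hbc.equiv_tmul]
  rw [funext he]
  exact e.bijective

/-- Direct image reflects isomorphisms of bundles. -/
theorem exists_iso_of_push [IsIntegral Y] [IsFinite g] {U : X.Opens} (hne : (g ⁻¹ᵁ U : Set Y).Nonempty)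
    (hU : IsIso (g ∣_ U)) {E E' : Y.Modules} [Coh.IsQCoh E] [Coh.IsQCoh E'] (hE' : NoTors E')
    (φ : (Scheme.Modules.pushforward g).obj E ≅ (Scheme.Modules.pushforward g).obj E') :
    ∃ f : E ⟶ E', (Scheme.Modules.pushforward g).map f = φ.hom := by
  let adj := Scheme.Modules.pullbackPushforwardAdjunction g
  let ε : pb g ((Scheme.Modules.pushforward g).obj E) ⟶ E := adj.counit.app E
  haveI : Epi ε := epi_counit g E
  haveI := QCohLib.isQCoh_pushforward g E
  haveI := KFlatLib.isQCoh_pullback g ((Scheme.Modules.pushforward g).obj E)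
  haveI : Coh.IsQCoh (kernel ε) := QCohLib.isQCoh_kernel ε
  let θ := (adj.homEquiv _ E').symm φ.hom
  obtain ⟨y, hy⟩ := hne
  obtain ⟨W, hW, hyW, hWU⟩ := exists_isAffineOpen_mem_and_subset (x := g y) (U := U) hy
  have hθ : kernel.ι ε ≫ θ = 0 := by
    refine hom_eq_zero_of_open hE' _ (hW.preimage g)
      ((genericPoint_spec Y).mem_open_set_iff (g ⁻¹ᵁ W).2 |>.2 ⟨y, by simpa using hyW⟩) fun a => ?_
    obtain ⟨m, hm⟩ := (bijective_puSec g hU ((Scheme.Modules.pushforward g).obj E) hW hWU).2 ((kernel.ι ε).app _ a)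
    have h1 : ε.app (g ⁻¹ᵁ W) (puSec g (M := (Scheme.Modules.pushforward g).obj E) m) = m :=
      ConcreteCategory.congr_hom (congrArg (fun φ => Scheme.Modules.Hom.app φ W)
        (adj.right_triangle_components E)) m
    have h2 : ε.app (g ⁻¹ᵁ W) ((kernel.ι ε).app (g ⁻¹ᵁ W) a) = 0 :=
      ConcreteCategory.congr_hom (congrArg (fun φ => Scheme.Modules.Hom.app φ (g ⁻¹ᵁ W)) (kernel.condition ε)) a
    have hm' : puSec g (M := (Scheme.Modules.pushforward g).obj E) m = (kernel.ι ε).app (g ⁻¹ᵁ W) a := hm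
    rw [← hm', h1] at h2
    show θ.app (g ⁻¹ᵁ W) ((kernel.ι ε).app (g ⁻¹ᵁ W) a) = 0
    rw [← hm', h2]
    exact (congrArg _ (map_zero _)).trans (map_zero _)
  let f : E ⟶ E' := Abelian.epiDesc ε θ hθ
  refine ⟨f, ?_⟩
  have h3 : adj.homEquiv _ E' (ε ≫ f) = φ.hom := by
    rw [Abelian.comp_epiDesc]
    exact Equiv.apply_symm_apply _ _
  rw [adj.homEquiv_naturality_right, show adj.homEquiv _ E ε = 𝟙 _ by
    rw [Adjunction.homEquiv_unit]; exact adj.right_triangle_components E, Category.id_comp] at h3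
  exact h3

theorem regular_stalk_of_normal [IsIntegral Y] [IsLocallyNoetherian Y] (hn : Pi1.IsNormalScheme Y)
    (hdim : topologicalKrullDim Y ≤ 1) (y : Y) : IsRegularLocalRing (Y.presheaf.stalk y) := by
  haveI := (hn y).2
  haveI : Ring.KrullDimLE 1 (Y.presheaf.stalk y) :=
    Ring.krullDimLE_iff.2 ((MiscFlat6.ringKrullDim_stalk_le Y y).trans hdim)
  haveI : IsPrincipalIdealRing (Y.presheaf.stalk y) :=
    ((tfae_of_isNoetherianRing_of_isLocalRing_of_isDomain (Y.presheaf.stalk y)).out 0 3 :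
        IsPrincipalIdealRing (Y.presheaf.stalk y) ↔ IsIntegrallyClosed (Y.presheaf.stalk y) ∧
          ∀ P : Ideal (Y.presheaf.stalk y), P ≠ ⊥ → P.IsPrime → P = IsLocalRing.maximalIdeal (Y.presheaf.stalk y)).2
      ⟨inferInstance, fun P hP hp => IsLocalRing.eq_maximalIdeal
        (Ring.krullDimLE_one_iff_of_noZeroDivisors.1 inferInstance P hP hp)⟩
  infer_instance

section Norm

variable {k : Type u} [Field k] [X.Over (Spec (CommRingCat.of k))] [IsProper (X ↘ Spec (CommRingCat.of k))]
  [IsIntegral X] [QuasiCompact (X.fromSpecStalk (genericPoint X))] [QuasiSeparated (X.fromSpecStalk (genericPoint X))]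

local notation "ν" => Curv2.normalizationι X

include k in
theorem exists_bundle (hdim : topologicalKrullDim X = 1) (n : ℕ) {F : X.Modules} (hF : Coh.IsCoh F)
    (he : ∀ x : X, Nonempty (↑(F.presheaf.stalk x) ≃ₗ[↑(X.presheaf.stalk x)]
      (Fin n → ↥(integralClosure ↑(X.presheaf.stalk x) X.functionField)))) :
    ∃ E : (Curv2.normalization X).Modules, FlatMod.IsFinLocFreeOfRank n E ∧
      Nonempty ((Coh.push ν).obj E ≅ F) := by
  obtain ⟨hfin, hdom, ⟨U, hUne, hiso⟩, hint, hnorm⟩ := Groth.Agent.S1585.result k X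
  haveI := hfin
  haveI := hint
  haveI : Surjective ν := Groth.Agent.S1585.surjective_ν X
  haveI : IsNoetherian X := CurvLib.isNoetherian k (X := X)
  haveI : IsLocallyNoetherian (Curv2.normalization X) := LocallyOfFiniteType.isLocallyNoetherian ν
  haveI := hF.1
  have hFt : NoTors F := noTors_of_stalks fun x => by
    obtain ⟨e⟩ := he x
    refine ⟨fun {r m} h => or_iff_not_imp_left.2 fun hr => e.injective (funext fun i => Subtype.ext ?_)⟩
    have h1 := congrFun (congrArg e h) i
    rw [map_smul, map_zero] at h1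
    have h' := mul_eq_zero.1 (((Algebra.smul_def r (e m i : X.functionField)).symm.trans (congrArg Subtype.val h1)))
    simp only [map_zero, Pi.zero_apply, ZeroMemClass.coe_zero]
    exact h'.resolve_left fun h0 => hr (IsFractionRing.injective (X.presheaf.stalk x) X.functionField
      (h0.trans (map_zero _).symm))
  let P := pb ν F
  have hP : Coh.IsCoh P := ConsLib.isCoh_pullback ν hF
  haveI := hP.1
  let T := CurveVBLib.torSub P
  have hT : Coh.IsCoh T.toModules := CurveVBLib.isCoh_torSub hP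
  let E := cokernel T.ι
  let π : P ⟶ E := cokernel.π T.ι
  have hE : Coh.IsCoh E := QCohLib.isCoh_cokernel T.ι hT.1 hP
  haveI := hE.1
  let ηY := genericPoint (Curv2.normalization X)
  have hπη : Function.Bijective ((DevissLib.St ηY).map π).hom := by
    refine ⟨?_, (ModuleCat.epi_iff_surjective _).1 inferInstance⟩
    have hS : (ShortComplex.mk T.ι π (cokernel.condition _)).Exact :=
      ShortComplex.exact_of_g_is_cokernel _ (cokernelIsCokernel _)
    have hS' := hS.map (DevissLib.St ηY)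
    rw [ShortComplex.moduleCat_exact_iff] at hS'
    refine (injective_iff_map_eq_zero _).2 fun z hz => ?_
    obtain ⟨w, hw⟩ := hS' z hz
    obtain ⟨V, hV, s, rfl⟩ := DevissLib.exists_gm_eq T.toModules ηY w
    rw [← hw]
    exact (DevissLib.gm_app T.ι ηY hV s).trans (QCohLib.LocSub.ι_app_mem T s hV)
  have hEt : NoTors E := fun V hV c hc s hs => by
    haveI : Epi π := inferInstanceAs (Epi (cokernel.π T.ι))
    obtain ⟨w, rfl⟩ := OmegaAffLib.surjective_app_of_epi π hV s
    by_cases hη : ηY ∈ V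
    · have hw : T.mem V w := fun h => by
        have h1 : ((DevissLib.St ηY).map π).hom (gm P ηY h (c • w)) = 0 := by
          rw [DevissLib.gm_app, Scheme.Modules.Hom.app_smul, hs]
          exact map_zero _
        have h2 := (injective_iff_map_eq_zero _).1 hπη.1 _ h1
        rw [DevissLib.gm_smul] at h2
        letI : Field ((Curv2.normalization X).presheaf.stalk ηY) :=
          (inferInstance : Field (Curv2.normalization X).functionField)
        exact (smul_eq_zero.1 h2).resolve_left fun h0 =>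
          hc (germ_injective_of_isIntegral _ _ h (h0.trans (map_zero _).symm))
      rw [← QCohLib.LocSub.ι_lift T w hw]
      exact ConcreteCategory.congr_hom (congrArg (fun φ => Scheme.Modules.Hom.app φ V) (cokernel.condition T.ι)) _
    · refine absurd ?_ hc
      rw [← basicOpen_eq_bot_iff]
      exact eq_bot_iff.2 fun x hx => absurd ((genericPoint_spec (Curv2.normalization X)).mem_open_set_iff V.2 |>.2
        ⟨x, by simpa using (Curv2.normalization X).basicOpen_le c hx⟩) hη
  have hdimY : topologicalKrullDim (Curv2.normalization X) ≤ 1 :=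
    (AlgSpRegLib.topDim_le_of_lqf ν).trans hdim.le
  have hfree : FlatMod.IsFinLocFree E :=
    (Groth.Agent.S1688.result _ (regular_stalk_of_normal hnorm hdimY) hdimY E hE).1 (stalk_torsionFree hEt)
  have hη : (ν : Curv2.normalization X ⟶ X) ηY = genericPoint X := by
    refine ((genericPoint_spec (Curv2.normalization X)).image (ν).continuous).eq ?_
    rw [Set.image_univ, (ν).surjective.range_eq, closure_univ]
    exact genericPoint_spec X
  have hrank : CurvLib.genRank E = n := by
    letI : Algebra (X.presheaf.stalk (ν ηY)) ((Curv2.normalization X).presheaf.stalk ηY) := ((Scheme.Hom.stalkMap ν ηY).hom).toAlgebra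
    have e1 : (DevissLib.St ηY).obj P ≅ (ModuleCat.extendScalars.{u, u, u} (Scheme.Hom.stalkMap ν ηY).hom).obj
        ((DerSch.stalkFunctor X (ν ηY)).obj F) := (KFlatLib.stalkPullIso ν ηY).app F
    refine ((LinearEquiv.ofBijective _ hπη).finrank_eq.symm.trans e1.toLinearEquiv.finrank_eq).trans ?_
    obtain ⟨e⟩ := he (ν ηY)
    have key : ∀ z : X, z = genericPoint X → Nonempty
        ((Fin n → ↥(integralClosure (X.presheaf.stalk z) X.functionField)) ≃ₗ[X.presheaf.stalk z]
          (Fin n → X.presheaf.stalk z)) := by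
      intro z hz₀
      have hfld : IsField (X.presheaf.stalk z) := by rw [hz₀]; exact Field.toIsField X.functionField
      have hb : Function.Bijective (Algebra.linearMap (X.presheaf.stalk z)
          ↥(integralClosure (X.presheaf.stalk z) X.functionField)) := by
        refine ⟨fun a b h => IsFractionRing.injective (X.presheaf.stalk z) X.functionField
          (congrArg Subtype.val h), fun w => ?_⟩
        obtain ⟨a, s, hs, hz⟩ := IsFractionRing.div_surjective (A := X.presheaf.stalk z) (w : X.functionField)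
        obtain ⟨s', hs'⟩ := hfld.mul_inv_cancel (a := s)
          (nonZeroDivisors.ne_zero hs)
        refine ⟨a * s', Subtype.ext ?_⟩
        show algebraMap (X.presheaf.stalk z) X.functionField (a * s') = (w : X.functionField)
        have h1 : algebraMap (X.presheaf.stalk z) X.functionField s *
            algebraMap (X.presheaf.stalk z) X.functionField s' = 1 := by
          rw [← map_mul, show s * s' = 1 from hs', map_one]
        rw [← hz, map_mul, eq_div_iff (left_ne_zero_of_mul_eq_one h1), mul_assoc, mul_comm (algebraMap _ X.functionField s'), h1, mul_one]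
      exact ⟨LinearEquiv.piCongrRight fun _ => (LinearEquiv.ofBijective _ hb).symm⟩
    obtain ⟨e'⟩ := key _ hη
    let eF : (DerSch.stalkFunctor X (ν ηY)).obj F ≃ₗ[X.presheaf.stalk (ν ηY)] (Fin n → X.presheaf.stalk (ν ηY)) :=
      e.trans e'
    haveI : Module.Free (X.presheaf.stalk (ν ηY)) ((DerSch.stalkFunctor X (ν ηY)).obj F) :=
      Module.Free.of_equiv eF.symm
    refine (Module.finrank_baseChange (R := (Curv2.normalization X).presheaf.stalk ηY)
      (S := X.presheaf.stalk (ν ηY)) (M' := (DerSch.stalkFunctor X (ν ηY)).obj F)).trans ?_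
    exact eF.finrank_eq.trans (Module.finrank_fin_fun _)
  refine ⟨E, hrank ▸ CurveVBLib.rank_genRank hfree, ?_⟩
  let h : F ⟶ (Coh.push ν).obj E :=
    (Scheme.Modules.pullbackPushforwardAdjunction ν).unit.app F ≫ (Scheme.Modules.pushforward ν).map π
  have hh : ∀ (V : X.Opens) (m : Γ(F, V)), h.app V m = π.app (ν ⁻¹ᵁ V) (puSec ν m) := fun V m => rfl
  have hPE : Coh.IsCoh ((Coh.push ν).obj E) := QCohLib.isCoh_push_finite ν E hE
  haveI := hPE.1
  suffices IsIso h from ⟨(asIso h).symm⟩
  refine KFlatLib.isIso_of_stalks h fun x => (ConcreteCategory.isIso_iff_bijective _).2 ⟨?_, ?_⟩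
  · refine (injective_iff_map_eq_zero _).2 fun z hz => ?_
    obtain ⟨V₀, hx₀, m₀, rfl⟩ := DevissLib.exists_gm_eq F x z
    obtain ⟨W, hW, hxW, hWV'⟩ := exists_isAffineOpen_mem_and_subset (x := x) (U := V₀) hx₀
    have hWV : W ≤ V₀ := hWV'
    rw [← DevissLib.gm_map F hWV x hxW m₀] at hz ⊢
    obtain ⟨m, hm_eq⟩ : ∃ m, m = F.presheaf.map (homOfLE hWV).op m₀ := ⟨_, rfl⟩
    rw [← hm_eq] at hz ⊢
    refine (congrArg (gm F x hxW) ?_).trans (map_zero _)
    rw [DevissLib.gm_app] at hz
    have hm : h.app W m = 0 := by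
      refine eq_zero_of_gen (hEt.push ν) hW ((genericPoint_spec X).mem_open_set_iff W.2 |>.2 ⟨x, by simpa using hxW⟩) _ ?_
      letI := Module.compHom (((Coh.push ν).obj E).presheaf.stalk x) (X.presheaf.germ W x hxW).hom
      haveI := FlatLib.isLocalizedModule_germLin ((Coh.push ν).obj E) hW hxW
      obtain ⟨⟨c, hc⟩, hcs⟩ := (IsLocalizedModule.eq_iff_exists (hW.primeIdealOf ⟨_, hxW⟩).asIdeal.primeCompl
        (FlatLib.germLin ((Coh.push ν).obj E) hxW)).1
          (show FlatLib.germLin _ hxW (h.app W m) = FlatLib.germLin _ hxW 0 from hz.trans (map_zero _).symm)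
      rw [(hEt.push ν) W hW c (fun hc0 => hc (hc0 ▸ Ideal.zero_mem _)) _ (hcs.trans (smul_zero _)), map_zero]
    obtain ⟨W', hW', hηW', hle⟩ := exists_isAffineOpen_mem_and_subset (x := genericPoint X) (U := W ⊓ U)
      ⟨(genericPoint_spec X).mem_open_set_iff W.2 |>.2 ⟨x, by simpa using hxW⟩,
        (genericPoint_spec X).mem_open_set_iff U.2 |>.2 (by simpa using hUne)⟩
    refine eq_zero_of_gen hFt hW ((hle.trans inf_le_left) hηW') m ?_
    have hWW : W' ≤ W := hle.trans inf_le_left
    let m' := F.presheaf.map (homOfLE hWW).op m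
    suffices hm' : m' = 0 by
      refine (DevissLib.gm_map F hWW _ hηW' m).symm.trans ?_
      exact (congrArg (gm F _ hηW') hm').trans (map_zero _)
    have hm1 : h.app W' m' = 0 := by
      show h.app W' (F.presheaf.map (homOfLE hWW).op m) = 0
      rw [QCohLib.app_map, hm, map_zero]
    have hηW : ηY ∈ ν ⁻¹ᵁ W' := show ν ηY ∈ W' from hη.symm ▸ hηW'
    have h1 : gm P ηY hηW (puSec ν m') = 0 := (injective_iff_map_eq_zero _).1 hπη.1 _ (by
      rw [DevissLib.gm_app, ← hh, hm1]
      exact map_zero _)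
    letI := Module.compHom (P.presheaf.stalk ηY) ((Curv2.normalization X).presheaf.germ (ν ⁻¹ᵁ W') ηY hηW).hom
    haveI := FlatLib.isLocalizedModule_germLin P (hW'.preimage ν) hηW
    obtain ⟨⟨c, hc⟩, hcs⟩ := (IsLocalizedModule.eq_iff_exists ((hW'.preimage ν).primeIdealOf ⟨_, hηW⟩).asIdeal.primeCompl
      (FlatLib.germLin P hηW)).1 (show FlatLib.germLin P hηW (puSec ν m') = FlatLib.germLin P hηW 0 from
        h1.trans (map_zero _).symm)
    haveI := isIso_app_of_restrict ν hiso (hle.trans inf_le_right)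
    obtain ⟨c', rfl⟩ := (ConcreteCategory.bijective_of_isIso ((ν).app W')).2 c
    refine hFt W' hW' c' (fun h0 => hc (by rw [h0, map_zero]; exact Ideal.zero_mem _)) m'
      ((bijective_puSec ν hiso F hW' (hle.trans inf_le_right)).1 ?_)
    show puSec ν (c' • m') = puSec ν (0 : Γ(F, W'))
    rw [KFlatLib.puSec_smul]
    exact (hcs.trans (smul_zero _)).trans (map_zero _).symm
  · intro p
    obtain ⟨V₀, hx₀, t₀, rfl⟩ := DevissLib.exists_gm_eq ((Coh.push ν).obj E) x p
    obtain ⟨V, hV, hxV, hle⟩ := exists_isAffineOpen_mem_and_subset (x := x) (U := V₀) hx₀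
    rw [← DevissLib.gm_map ((Coh.push ν).obj E) hle x hxV t₀]
    obtain ⟨t, ht⟩ : ∃ t, t = ((Coh.push ν).obj E).presheaf.map (homOfLE (show V ≤ V₀ from hle)).op t₀ := ⟨_, rfl⟩
    haveI : Nonempty V := ⟨⟨x, hxV⟩⟩
    haveI : Epi π := inferInstanceAs (Epi (cokernel.π T.ι))
    obtain ⟨w, hw⟩ := OmegaAffLib.surjective_app_of_epi π (hV.preimage ν) (show Γ(E, ν ⁻¹ᵁ V) from t)
    letI : Algebra Γ(X, V) Γ(Curv2.normalization X, ν ⁻¹ᵁ V) := ((ν).appLE V (ν ⁻¹ᵁ V) le_rfl).hom.toAlgebra
    letI : Module Γ(X, V) Γ(P, ν ⁻¹ᵁ V) := Module.compHom _ ((ν).appLE V (ν ⁻¹ᵁ V) le_rfl).hom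
    haveI : IsScalarTower Γ(X, V) Γ(Curv2.normalization X, ν ⁻¹ᵁ V) Γ(P, ν ⁻¹ᵁ V) :=
      IsScalarTower.of_algebraMap_smul fun _ _ => rfl
    let ψ : Γ(F, V) →ₗ[Γ(X, V)] Γ(P, ν ⁻¹ᵁ V) :=
      { toFun := fun m => puSecLE ν F (le_refl (ν ⁻¹ᵁ V)) m
        map_add' := fun a b => map_add _ a b
        map_smul' := fun r m => KFlatLib.puSecLE_smul ν F le_rfl r m }
    have hbc := KFlatLib.isBaseChange_puSec ν F hV (hV.preimage ν) le_rfl (fun _ => rfl) ψ (fun _ => rfl)
    suffices hs : ∃ z, ((DevissLib.St x).map h).hom z = gm ((Coh.push ν).obj E) x hxV (π.app (ν ⁻¹ᵁ V) w) by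
      obtain ⟨z, hz⟩ := hs
      refine ⟨z, hz.trans (congrArg (gm ((Coh.push ν).obj E) x hxV) ?_)⟩
      rw [← ht]
      exact hw
    refine hbc.inductionOn w (fun w => ∃ z, ((DevissLib.St x).map h).hom z =
      gm ((Coh.push ν).obj E) x hxV (π.app (ν ⁻¹ᵁ V) w)) ?_ (fun m => ?_) ?_ ?_
    · exact ⟨0, by rw [map_zero, map_zero]; exact (map_zero _).symm⟩
    · refine ⟨gm F x hxV m, ?_⟩
      rw [DevissLib.gm_app, hh]
      exact congrArg (gm ((Coh.push ν).obj E) x hxV) (congrArg _ (AmpleLib.res_refl _ _).symm)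
    · rintro b w' ⟨z, hz⟩
      obtain ⟨ch, hch, hcha, -, -⟩ := NormDimOneLib.exists_chart X ⟨V, hV⟩
      letI : Algebra Γ(X, V) X.functionField := (X.germToFunctionField V).hom.toAlgebra
      haveI : IsFractionRing Γ(X, V) X.functionField := functionField_isFractionRing_of_isAffineOpen X V hV
      letI : Algebra Γ(X, V) (X.presheaf.stalk x) := (X.presheaf.germ V x hxV).hom.toAlgebra
      haveI : IsScalarTower Γ(X, V) (X.presheaf.stalk x) X.functionField :=
        IsScalarTower.of_algebraMap_eq fun r => (X.algebraMap_germ_eq_germToFunctionField hxV r).symm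
      have hzi : IsIntegral Γ(X, V) (ch b) := by
        obtain ⟨p, hp, hpe⟩ := (ν).isIntegral_app V hV b
        refine ⟨p, hp, ?_⟩
        have h1 := congrArg ch hpe
        rw [Polynomial.hom_eval₂, map_zero] at h1
        rw [← h1]
        exact congrArg (fun φ => Polynomial.eval₂ φ (ch b) p) (RingHom.ext fun r => (hcha r).symm)
      let zc : ↥(integralClosure (X.presheaf.stalk x) X.functionField) := ⟨ch b, hzi.tower_top⟩
      obtain ⟨a, s, hs, has⟩ := IsFractionRing.div_surjective (A := Γ(X, V)) (ch b)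
      have hs0 : s ≠ 0 := nonZeroDivisors.ne_zero hs
      have hsb : (ν).app V s * b = (ν).app V a := hch (by
        rw [map_mul, hcha, hcha, ← has]
        exact mul_div_cancel₀ _ fun h0 => hs0 (IsFractionRing.injective Γ(X, V) X.functionField (h0.trans (map_zero _).symm)))
      obtain ⟨e⟩ := he x
      let m' := e.symm (fun i => zc * e z i)
      have hm' : X.presheaf.germ V x hxV s • m' = X.presheaf.germ V x hxV a • z := by
        apply e.injective
        rw [map_smul, map_smul, LinearEquiv.apply_symm_apply]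
        refine funext fun i => Subtype.ext ?_
        show algebraMap _ X.functionField (X.presheaf.germ V x hxV s) * (ch b * (e z i : X.functionField)) =
          algebraMap _ X.functionField (X.presheaf.germ V x hxV a) * (e z i : X.functionField)
        rw [← mul_assoc]
        congr 1
        rw [X.algebraMap_germ_eq_germToFunctionField, X.algebraMap_germ_eq_germToFunctionField, ← has]
        exact mul_div_cancel₀ _ fun h0 => hs0 (IsFractionRing.injective Γ(X, V) X.functionField (h0.trans (map_zero _).symm))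
      refine ⟨m', ?_⟩
      haveI := stalk_torsionFree (hEt.push ν) x
      have hk : ∀ r : Γ(X, V), gm ((Coh.push ν).obj E) x hxV (π.app (ν ⁻¹ᵁ V) ((ν).app V r • w')) =
          X.presheaf.germ V x hxV r • gm ((Coh.push ν).obj E) x hxV (π.app (ν ⁻¹ᵁ V) w') := fun r => by
        rw [← DevissLib.gm_smul, Scheme.Modules.Hom.app_smul]
        rfl
      have hd : X.presheaf.germ V x hxV s • (((DevissLib.St x).map h).hom m' -
          gm ((Coh.push ν).obj E) x hxV (π.app (ν ⁻¹ᵁ V) (b • w'))) = 0 := by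
        rw [smul_sub, ← map_smul, hm', map_smul, hz, ← hk, ← DevissLib.gm_smul, sub_eq_zero]
        refine congrArg (gm ((Coh.push ν).obj E) x hxV) ?_
        show π.app (ν ⁻¹ᵁ V) ((ν).app V a • w') = (ν).app V s • π.app (ν ⁻¹ᵁ V) (b • w')
        rw [← Scheme.Modules.Hom.app_smul, smul_smul, hsb]
      exact sub_eq_zero.1 ((eq_zero_or_eq_zero_of_smul_eq_zero hd).resolve_left fun h0 =>
        hs0 (germ_injective_of_isIntegral X x hxV (h0.trans (map_zero _).symm)))
    · rintro w₁ w₂ ⟨z₁, h₁⟩ ⟨z₂, h₂⟩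
      refine ⟨z₁ + z₂, ?_⟩
      rw [map_add, h₁, h₂, map_add]
      exact (map_add _ _ _).symm

end Norm

end NormStab

namespace NormStab

variable {X Y : Scheme.{u}}

/-- Bundles with isomorphic direct images are isomorphic. -/
theorem nonempty_iso_of_push [IsIntegral Y] (g : Y ⟶ X) [IsFinite g] {U : X.Opens}
    (hne : (g ⁻¹ᵁ U : Set Y).Nonempty) (hU : IsIso (g ∣_ U)) {E E' : Y.Modules} [Coh.IsQCoh E] [Coh.IsQCoh E']
    (hE : NoTors E) (hE' : NoTors E')
    (φ : (Scheme.Modules.pushforward g).obj E ≅ (Scheme.Modules.pushforward g).obj E') : Nonempty (E ≅ E') := by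
  obtain ⟨f, hf⟩ := exists_iso_of_push g hne hU hE' φ
  obtain ⟨f', hf'⟩ := exists_iso_of_push g hne hU hE φ.symm
  obtain ⟨y, hy⟩ := hne
  obtain ⟨W, hW, hyW, -⟩ := exists_isAffineOpen_mem_and_subset (x := g y) (U := U) hy
  have hη : genericPoint Y ∈ g ⁻¹ᵁ W := (genericPoint_spec Y).mem_open_set_iff (g ⁻¹ᵁ W).2 |>.2 ⟨y, by simpa using hyW⟩
  have key : ∀ {A : Y.Modules} [Coh.IsQCoh A], NoTors A → ∀ d : A ⟶ A,
      (Scheme.Modules.pushforward g).map d = 𝟙 _ → d = 𝟙 A := fun {A} _ hA d hd =>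
    sub_eq_zero.1 (hom_eq_zero_of_open hA (d - 𝟙 A) (hW.preimage g) hη fun a => by
      show d.app (g ⁻¹ᵁ W) a - a = 0
      exact sub_eq_zero.2 (ConcreteCategory.congr_hom (congrArg (fun φ => Scheme.Modules.Hom.app φ W) hd) a))
  exact ⟨⟨f, f', key hE _ (by rw [Functor.map_comp, hf, hf']; exact φ.hom_inv_id),
    key hE' _ (by rw [Functor.map_comp, hf, hf']; exact φ.inv_hom_id)⟩⟩

end NormStab
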